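import Groth.Prelude.Def_CohTop
import Mathlib

/-! # Towers of flasque sheaves -/

set_option autoImplicit false
set_option backward.isDefEq.respectTransparency false
universe u

open CategoryTheory CategoryTheory.Limits TopologicalSpace Opposite

noncomputable section

namespace Groth.Agent.FlasqueTower

variable {X : TopCat.{u}}

/-- sections over an open -/
abbrev G (U : Opens X) : CohTop.Ab X ⥤ AddCommGrpCat.{u} :=
  sheafToPresheaf (Opens.grothendieckTopology X) AddCommGrpCat.{u} ⋙ (evaluation (Opens X)ᵒᵖ AddCommGrpCat.{u}).obj (op U)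

lemma exact_sections {S : ShortComplex (CohTop.Ab X)} (hS : S.ShortExact) (U : Opens X)
    (x : S.X₂.obj.obj (op U)) (hx : S.g.hom.app (op U) x = 0) :
    ∃ w, S.f.hom.app (op U) w = x := by
  have h := hS.exact.map_of_mono_of_preservesKernel (G U) hS.mono_f inferInstance
  exact (ShortComplex.ab_exact_iff _).mp h x hx

lemma surjective_sections {S : ShortComplex (CohTop.Ab X)} (hS : S.ShortExact)
    (h1 : TopCat.Sheaf.IsFlasque S.X₁) (U : Opens X) : Function.Surjective (S.g.hom.app (op U)) := by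
  haveI := h1
  exact (AddCommGrpCat.epi_iff_surjective _).mp
    (TopCat.Sheaf.IsFlasque.epi_of_shortExact (U := U) (S := S) hS)

lemma res_surjective {F : CohTop.Ab X} (hF : TopCat.Sheaf.IsFlasque F) {U V : (Opens X)ᵒᵖ} (i : U ⟶ V) :
    Function.Surjective (F.obj.map i) :=
  (AddCommGrpCat.epi_iff_surjective _).mp (hF.epi i)

variable (M : ℕᵒᵖ ⥤ CohTop.Ab X)

/-- transition map -/
abbrev t (n : ℕ) : M.obj (op (n + 1)) ⟶ M.obj (op n) := M.map (homOfLE (Nat.le_succ n)).op

lemma kerSeq_shortExact (n : ℕ) [Epi (t M n)] :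
    (ShortComplex.mk (kernel.ι (t M n)) (t M n) (kernel.condition _)).ShortExact where
  exact := ShortComplex.exact_of_f_is_kernel _ (kernelIsKernel _)

/-- compatible families extend to sections of the limit -/
lemma exists_section (U : Opens X) (a : ∀ n, (M.obj (op n)).obj.obj (op U))
    (ha : ∀ n, (t M n).hom.app (op U) (a (n + 1)) = a n) :
    ∃ s : (limit M : CohTop.Ab X).obj.obj (op U), ∀ n, (limit.π M (op n)).hom.app (op U) s = a n := by
  let h := isLimitOfPreserves (G U ⋙ forget AddCommGrpCat.{u}) (limit.isLimit M)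
  have hcompat : ∀ (m n : ℕ) (hmn : m ≤ n), (M.map (homOfLE hmn).op).hom.app (op U) (a n) = a m := by
    intro m n hmn
    induction n, hmn using Nat.le_induction with
    | base =>
      exact ConcreteCategory.congr_hom (congrArg (fun φ : M.obj (op m) ⟶ M.obj (op m) => φ.hom.app (op U))
        (M.map_id (op m))) (a m)
    | succ n hmn ih =>
      rw [show M.map (homOfLE (hmn.trans (Nat.le_succ n))).op = t M n ≫ M.map (homOfLE hmn).op by
        rw [← M.map_comp]; rfl]
      exact (congrArg ((M.map (homOfLE hmn).op).hom.app (op U)) (ha n)).trans ih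
  let σ : (M ⋙ G U ⋙ forget AddCommGrpCat.{u}).sections :=
    ⟨fun j => a j.unop, fun {j j'} f => hcompat j'.unop j.unop (leOfHom f.unop)⟩
  refine ⟨(Types.isLimitEquivSections h).symm σ, fun n => ?_⟩
  exact Types.isLimitEquivSections_symm_apply h σ (op n)

lemma section_ext (U : Opens X) (s s' : (limit M : CohTop.Ab X).obj.obj (op U))
    (h : ∀ n, (limit.π M (op n)).hom.app (op U) s = (limit.π M (op n)).hom.app (op U) s') : s = s' := by
  let hl := isLimitOfPreserves (G U ⋙ forget AddCommGrpCat.{u}) (limit.isLimit M)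
  exact (Types.isLimitEquivSections hl).injective (Subtype.ext (funext fun j => h j.unop))

theorem isFlasque_limit (hM : ∀ n, TopCat.Sheaf.IsFlasque (M.obj (op n))) (he : ∀ n, Epi (t M n))
    (hk : ∀ n, TopCat.Sheaf.IsFlasque (kernel (t M n) : CohTop.Ab X)) :
    TopCat.Sheaf.IsFlasque (limit M : CohTop.Ab X) := by
  refine ⟨fun {U' V'} i => ?_⟩
  obtain ⟨U⟩ := U'
  obtain ⟨V⟩ := V'
  rw [AddCommGrpCat.epi_iff_surjective]
  intro s
  have step : ∀ (n : ℕ) (b : (M.obj (op n)).obj.obj (op U)),
      (M.obj (op n)).obj.map i b = (limit.π M (op n)).hom.app (op V) s →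
      ∃ b' : (M.obj (op (n + 1))).obj.obj (op U), (t M n).hom.app (op U) b' = b ∧
        (M.obj (op (n + 1))).obj.map i b' = (limit.π M (op (n + 1))).hom.app (op V) s := by
    intro n b hb
    haveI := he n
    obtain ⟨b₀, hb₀⟩ := surjective_sections (kerSeq_shortExact M n) (hk n) U b
    have hπ : (t M n).hom.app (op V) ((limit.π M (op (n + 1))).hom.app (op V) s) =
        (limit.π M (op n)).hom.app (op V) s :=
      ConcreteCategory.congr_hom (congrArg (fun φ : (limit M : CohTop.Ab X) ⟶ M.obj (op n) => φ.hom.app (op V))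
        (limit.w M (homOfLE (Nat.le_succ n)).op)) s
    obtain ⟨w, hw⟩ := exact_sections (kerSeq_shortExact M n) V
      ((limit.π M (op (n + 1))).hom.app (op V) s - (M.obj (op (n + 1))).obj.map i b₀) (by
        show (t M n).hom.app (op V) _ = 0
        rw [map_sub, hπ, sub_eq_zero]
        refine hb.symm.trans ((congrArg ((M.obj (op n)).obj.map i) hb₀.symm).trans ?_)
        exact (ConcreteCategory.congr_hom ((t M n).hom.naturality i) b₀).symm)
    obtain ⟨w', rfl⟩ := res_surjective (hk n) i w
    refine ⟨b₀ + (kernel.ι (t M n)).hom.app (op U) w', ?_, ?_⟩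
    · rw [map_add]
      refine Eq.trans (congrArg₂ (· + ·) hb₀ ?_) (add_zero b)
      exact ConcreteCategory.congr_hom (congrArg (fun φ : kernel (t M n) ⟶ M.obj (op n) => φ.hom.app (op U))
        (kernel.condition (t M n))) w'
    · rw [map_add]
      refine Eq.trans (congrArg (_ + ·) ?_) (add_sub_cancel ((M.obj (op (n + 1))).obj.map i b₀) _)
      exact (ConcreteCategory.congr_hom ((kernel.ι (t M n)).hom.naturality i) w').symm.trans hw
  obtain ⟨b0, hb0⟩ := res_surjective (hM 0) i ((limit.π M (op 0)).hom.app (op V) s)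
  choose next hnext1 hnext2 using step
  let a : ∀ n, {b : (M.obj (op n)).obj.obj (op U) //
      (M.obj (op n)).obj.map i b = (limit.π M (op n)).hom.app (op V) s} :=
    fun n => Nat.rec (motive := fun n => {b : (M.obj (op n)).obj.obj (op U) //
      (M.obj (op n)).obj.map i b = (limit.π M (op n)).hom.app (op V) s}) ⟨b0, hb0⟩
      (fun n b => ⟨next n b.1 b.2, hnext2 n b.1 b.2⟩) n
  obtain ⟨x, hx⟩ := exists_section M U (fun n => (a n).1) fun n => hnext1 n (a n).1 (a n).2
  refine ⟨x, section_ext M V _ _ fun n => ?_⟩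
  refine (ConcreteCategory.congr_hom ((limit.π M (op n)).hom.naturality i) x).trans ?_
  exact (congrArg ((M.obj (op n)).obj.map i) (hx n)).trans (a n).2

theorem epi_limMap (S : ShortComplex (ℕᵒᵖ ⥤ CohTop.Ab X)) (hS : S.ShortExact)
    (h1 : ∀ n, TopCat.Sheaf.IsFlasque (S.X₁.obj (op n))) (he : ∀ n, Epi (t S.X₁ n))
    (hk : ∀ n, TopCat.Sheaf.IsFlasque (kernel (t S.X₁ n) : CohTop.Ab X)) :
    Epi (limMap S.g) := by
  have hev : ∀ n : ℕ, (S.map ((evaluation ℕᵒᵖ (CohTop.Ab X)).obj (op n))).ShortExact := fun n =>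
    hS.map_of_exact _
  have key : ∀ U : Opens X, Function.Surjective ((limMap S.g).hom.app (op U)) := by
    intro U s
    have step : ∀ (n : ℕ) (b : (S.X₂.obj (op n)).obj.obj (op U)),
        (S.g.app (op n)).hom.app (op U) b = (limit.π S.X₃ (op n)).hom.app (op U) s →
        ∃ b' : (S.X₂.obj (op (n + 1))).obj.obj (op U), (t S.X₂ n).hom.app (op U) b' = b ∧
          (S.g.app (op (n + 1))).hom.app (op U) b' = (limit.π S.X₃ (op (n + 1))).hom.app (op U) s := by
      intro n b hb
      obtain ⟨b₀, hb₀⟩ : ∃ b₀ : (S.X₂.obj (op (n + 1))).obj.obj (op U),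
          (S.g.app (op (n + 1))).hom.app (op U) b₀ = (limit.π S.X₃ (op (n + 1))).hom.app (op U) s :=
        surjective_sections (hev (n + 1)) (h1 (n + 1)) U _
      have hπ : (t S.X₃ n).hom.app (op U) ((limit.π S.X₃ (op (n + 1))).hom.app (op U) s) =
          (limit.π S.X₃ (op n)).hom.app (op U) s :=
        ConcreteCategory.congr_hom (congrArg
          (fun φ : (limit S.X₃ : CohTop.Ab X) ⟶ S.X₃.obj (op n) => φ.hom.app (op U))
          (limit.w S.X₃ (homOfLE (Nat.le_succ n)).op)) s
      have hnat : (S.g.app (op n)).hom.app (op U) ((t S.X₂ n).hom.app (op U) b₀) =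
          (t S.X₃ n).hom.app (op U) ((S.g.app (op (n + 1))).hom.app (op U) b₀) :=
        ConcreteCategory.congr_hom (congrArg
          (fun φ : S.X₂.obj (op (n + 1)) ⟶ S.X₃.obj (op n) => φ.hom.app (op U))
          (S.g.naturality (homOfLE (Nat.le_succ n)).op)) b₀
      obtain ⟨w, hw⟩ := exact_sections (hev n) U (b - (t S.X₂ n).hom.app (op U) b₀) (by
        show (S.g.app (op n)).hom.app (op U) _ = 0
        rw [map_sub, hnat, hb, sub_eq_zero]
        exact hπ.symm.trans (congrArg ((t S.X₃ n).hom.app (op U)) hb₀.symm))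
      haveI := he n
      obtain ⟨w', rfl⟩ := surjective_sections (kerSeq_shortExact S.X₁ n) (hk n) U w
      refine ⟨b₀ + (S.f.app (op (n + 1))).hom.app (op U) w', ?_, ?_⟩
      · rw [map_add]
        refine Eq.trans (congrArg (_ + ·) ?_) (add_sub_cancel ((t S.X₂ n).hom.app (op U) b₀) b)
        exact (ConcreteCategory.congr_hom (congrArg
          (fun φ : S.X₁.obj (op (n + 1)) ⟶ S.X₂.obj (op n) => φ.hom.app (op U))
          (S.f.naturality (homOfLE (Nat.le_succ n)).op)) w').symm.trans hw
      · rw [map_add]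
        refine Eq.trans (congrArg₂ (· + ·) hb₀ ?_) (add_zero _)
        exact ConcreteCategory.congr_hom (congrArg
          (fun φ : S.X₁.obj (op (n + 1)) ⟶ S.X₃.obj (op (n + 1)) => φ.hom.app (op U))
          (congrArg (fun φ : S.X₁ ⟶ S.X₃ => φ.app (op (n + 1))) S.zero)) w'
    obtain ⟨b0, hb0⟩ := surjective_sections (hev 0) (h1 0) U ((limit.π S.X₃ (op 0)).hom.app (op U) s)
    choose next hnext1 hnext2 using step
    let a : ∀ n, {b : (S.X₂.obj (op n)).obj.obj (op U) //
        (S.g.app (op n)).hom.app (op U) b = (limit.π S.X₃ (op n)).hom.app (op U) s} :=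
      fun n => Nat.rec (motive := fun n => {b : (S.X₂.obj (op n)).obj.obj (op U) //
        (S.g.app (op n)).hom.app (op U) b = (limit.π S.X₃ (op n)).hom.app (op U) s}) ⟨b0, hb0⟩
        (fun n b => ⟨next n b.1 b.2, hnext2 n b.1 b.2⟩) n
    obtain ⟨x, hx⟩ := exists_section S.X₂ U (fun n => (a n).1) fun n => hnext1 n (a n).1 (a n).2
    refine ⟨x, section_ext S.X₃ U _ _ fun n => ?_⟩
    refine (ConcreteCategory.congr_hom (congrArg
      (fun φ : (limit S.X₂ : CohTop.Ab X) ⟶ S.X₃.obj (op n) => φ.hom.app (op U))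
      (limMap_π S.g (op n))) x).trans ?_
    exact (congrArg ((S.g.app (op n)).hom.app (op U)) (hx n)).trans (a n).2
  haveI : Epi (limMap S.g).hom := by
    haveI : ∀ U : (Opens X)ᵒᵖ, Epi ((limMap S.g).hom.app U) := fun U =>
      (AddCommGrpCat.epi_iff_surjective _).mpr (key U.unop)
    exact NatTrans.epi_of_epi_app _
  exact (sheafToPresheaf (Opens.grothendieckTopology X) AddCommGrpCat.{u}).epi_of_epi_map this

end Groth.Agent.FlasqueTower
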